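import Cfsg.Agent.PGroups.WreathEight.Model

/-! Facts about the model of the wreath product. -/

set_option autoImplicit false
set_option maxRecDepth 100000

namespace Cfsg.Lib.WreathEight

open Mdl

/-- The codes of the centre. -/
def ctrN : List ℕ := [0, 18]

/-- The table of a map onto the base of the quotient. -/
def piN (j : ℕ) : ℕ → ℕ := fun a => (piTab.getD j []).getD a 0

/-- The image of the outer element. -/
def tauN (j : ℕ) : ℕ := tauTab.getD j 0

theorem ok_ctr : (List.range 128).all (fun a => (!(gensN.all fun g => comN a g) || ctrN.contains a) &&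
    comN 18 a) = true := by decide +kernel

theorem ok_repsq : (List.range 6).all (fun k => gensN.all fun g => repN k (repN k g) == g) = true := by decide +kernel

theorem ok_outer : [6, 7].all (fun k => (List.range 128).all fun g =>
    gensN.any fun x => repN k (repN k x) != conjN g x) = true := by decide +kernel

theorem ok_setW : (setW.all fun w => decide (w < 128) && setW.contains (invN w) && ctrN.contains (mulN w w) &&
    (setW.all fun v => setW.contains (mulN w v)) &&
    (List.range 4).all fun k => setW.contains (repN k w) && ctrN.contains (mulN w (repN k w))) = true ∧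
    (ctrN.all fun z => setW.contains z) = true ∧ setW.Nodup ∧ setW.length = 32 := by decide +kernel

theorem ok_fix18 : (List.range 8).all (fun k => repN k 18 == 18) = true := by decide +kernel

theorem ok_sets : ([setA, setB].all fun V => V.all fun v => decide (v < 128) && V.contains (invN v) &&
    (V.all fun w => V.contains (mulN v w)) && (List.range 128).all fun g => V.contains (conjN g v)) = true ∧
    setA.Nodup ∧ setA.length = 16 ∧ setB.Nodup ∧ setB.length = 16 ∧ 0 ∈ setA ∧ 0 ∈ setB ∧ 4 ∈ setA ∧ 7 ∈ setB := by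
  decide +kernel

theorem ok_moves : (List.range 8).all (fun k => if k < 4 then setA.all (fun v => setA.contains (repN k v))
    else setA.all (fun v => setB.contains (repN k v)) && !setA.contains (repN k 4) && !setB.contains (repN k 7)) =
    true := by decide +kernel

theorem ok_elem : (List.range 128).all (fun a => setA.contains a || setB.contains a || mulN a a != 0 ||
    (List.range 128).any fun g => !comN a (conjN g a)) = true := by decide +kernel

theorem ok_pi : (List.range 2).all (fun j => piN j 0 == 0 && piN j 18 == 0 && mulN (tauN j) (tauN j) == 0 &&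
    decide (tauN j < 128) &&
    ((List.range 128).all fun a => decide (piN j a < 128) && (piN j a != 0 || ctrN.contains a) &&
      piN j a != tauN j && (gensN.all fun g => piN j (mulN a g) == mulN (piN j a) (piN j g))) &&
    (gensN.all fun g => piN j (repN (4 + j) g) == conjN (tauN j) (piN j g)) &&
    (List.range 128).all fun p => (List.range 128).any fun a => piN j a == p || mulN (piN j a) (tauN j) == p) =
    true := by decide +kernel

/-- A subgroup given by its codes. -/
def subOf (L : List ℕ) (h0 : 0 ∈ L) (h : ∀ a ∈ L, invN a ∈ L ∧ ∀ b ∈ L, mulN a b ∈ L) : Subgroup Mdl where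
  carrier := {a | a.c ∈ L}
  one_mem' := by show (1 : Mdl).c ∈ L; rw [c_one]; exact h0
  mul_mem' {a b} ha hb := by show (a * b).c ∈ L; rw [c_mul]; exact (h _ ha).2 _ hb
  inv_mem' {a} ha := by show a⁻¹.c ∈ L; rw [c_inv]; exact (h _ ha).1

theorem card_subOf {L : List ℕ} (h0 : 0 ∈ L) (h : ∀ a ∈ L, invN a ∈ L ∧ ∀ b ∈ L, mulN a b ∈ L)
    (hlt : ∀ a ∈ L, a < 128) (hnd : L.Nodup) : Nat.card (subOf L h0 h) = L.length := by
  rw [← List.toFinset_card_of_nodup hnd, ← Nat.card_eq_finsetCard]
  exact Nat.card_congr ⟨fun a => ⟨a.1.c, List.mem_toFinset.2 a.2⟩,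
    fun n => ⟨of n.1, by show (of n.1).c ∈ L; rw [c_of (hlt _ (List.mem_toFinset.1 n.2))]; exact List.mem_toFinset.1 n.2⟩,
    fun a => Subtype.ext (of_c a.1), fun n => Subtype.ext (c_of (hlt _ (List.mem_toFinset.1 n.2)))⟩

theorem setW_spec {w : ℕ} (hw : w ∈ setW) : w < 128 ∧ invN w ∈ setW ∧ mulN w w ∈ ctrN ∧
    (∀ v ∈ setW, mulN w v ∈ setW) ∧ ∀ k < 4, repN k w ∈ setW ∧ mulN w (repN k w) ∈ ctrN := by
  have h := List.all_eq_true.1 ok_setW.1 w hw
  simp only [Bool.and_eq_true, decide_eq_true_eq, List.contains_iff_mem, List.all_eq_true, List.mem_range] at h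
  exact ⟨h.1.1.1.1, h.1.1.1.2, h.1.1.2, h.1.2, h.2⟩

/-- The subgroup of order 32 which is elementary abelian modulo the centre. -/
def subW : Subgroup Mdl :=
  subOf setW (List.contains_iff_mem.1 (List.all_eq_true.1 ok_setW.2.1 0 (by decide))) fun _ h => ⟨(setW_spec h).2.1, (setW_spec h).2.2.2.1⟩

/-- The centre. -/
def subZ : Subgroup Mdl := subOf ctrN (by decide) (by decide)

theorem card_subZ : Nat.card subZ = 2 := card_subOf _ _ (by decide) (by decide)

theorem card_subW : Nat.card subW = 32 :=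
  (card_subOf _ _ (fun _ h => (setW_spec h).1) ok_setW.2.2.1).trans ok_setW.2.2.2

theorem mem_subW {w : Mdl} : w ∈ subW ↔ w.c ∈ setW := Iff.rfl

theorem mem_subZ {z : Mdl} : z ∈ subZ ↔ z.c ∈ ctrN := Iff.rfl

theorem subZ_le_subW : subZ ≤ subW := fun _ h =>
  List.contains_iff_mem.1 (List.all_eq_true.1 ok_setW.2.1 _ h)

theorem sq_mem_subZ {w : Mdl} (hw : w ∈ subW) : w * w ∈ subZ := by
  rw [mem_subZ, c_mul]; exact (setW_spec hw).2.2.1

theorem rep_mem_subW {k : Fin 8} (hk : k.val < 4) {w : Mdl} (hw : w ∈ subW) :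
    rep k w ∈ subW ∧ w * rep k w ∈ subZ := by
  constructor
  · rw [mem_subW, c_rep]; exact ((setW_spec hw).2.2.2.2 _ hk).1
  · rw [mem_subZ, c_mul, c_rep]; exact ((setW_spec hw).2.2.2.2 _ hk).2

theorem commute_subZ {z : Mdl} (hz : z ∈ subZ) (a : Mdl) : z * a = a * z := by
  have h := all_range ok_ctr a.v.isLt
  simp only [Bool.and_eq_true, comN, beq_iff_eq] at h
  rw [mem_subZ, ctrN, List.mem_cons, List.mem_cons] at hz
  rcases hz with e | e | e
  · rw [show z = 1 from ext' (by rw [e, c_one]), one_mul, mul_one]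
  · exact ext' (by rw [c_mul, c_mul, e]; exact h.2)
  · simp at e

theorem mem_subZ_of_commute {z : Mdl} (h : ∀ a, z * a = a * z) : z ∈ subZ := by
  have e := all_range ok_ctr z.v.isLt
  simp only [Bool.and_eq_true, Bool.or_eq_true, Bool.not_eq_true', List.contains_iff_mem] at e
  refine mem_subZ.2 (e.1.resolve_left fun h' => ?_)
  have : gensN.all (fun g => comN z.c g) = true := List.all_eq_true.2 fun g hg => by
    rw [comN, beq_iff_eq, ← c_of (gen_lt hg), ← c_mul, ← c_mul, h]
  rw [this] at h'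
  exact Bool.noConfusion h'

theorem center_eq : Subgroup.center Mdl = subZ := le_antisymm
  (fun _ h => mem_subZ_of_commute fun a => (Subgroup.mem_center_iff.1 h a).symm)
  (fun _ h => Subgroup.mem_center_iff.2 fun a => (commute_subZ h a).symm)

theorem rep_subZ (k : Fin 8) {z : Mdl} (hz : z ∈ subZ) : rep k z = z := by
  rw [mem_subZ, ctrN, List.mem_cons, List.mem_cons] at hz
  rcases hz with e | e | e
  · rw [show z = 1 from ext' (by rw [e, c_one]), map_one]
  · exact ext' (by rw [c_rep, e]; exact beq_iff_eq.1 (all_range ok_fix18 k.isLt))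
  · simp at e

theorem rep_rep {k : Fin 8} (hk : k.val < 6) (p : Mdl) : rep k (rep k p) = p := by
  refine DFunLike.congr_fun (hom_ext (f := (rep k).comp (rep k)) (f' := MonoidHom.id Mdl) fun g hg => ext' ?_) p
  show (rep k (rep k (of g))).c = (of g).c
  rw [c_rep, c_rep, c_of (gen_lt hg)]
  exact beq_iff_eq.1 (List.all_eq_true.1 (all_range ok_repsq hk) g hg)

theorem rep_outer {k : Fin 8} (hk : 6 ≤ k.val) (g : Mdl) : ∃ p, rep k (rep k p) ≠ g * p * g⁻¹ := by
  have hm : k.val ∈ [6, 7] := by simp only [List.mem_cons, List.not_mem_nil, or_false]; omega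
  obtain ⟨x, hx, hne⟩ := List.any_eq_true.1 (all_range (List.all_eq_true.1 ok_outer _ hm) g.v.isLt)
  refine ⟨of x, fun e => ?_⟩
  have := congrArg Mdl.c e
  rw [c_rep, c_rep, c_conj, c_of (gen_lt hx)] at this
  simp [this] at hne

theorem set_spec {V : List ℕ} (hV : V ∈ [setA, setB]) {v : ℕ} (hv : v ∈ V) :
    v < 128 ∧ invN v ∈ V ∧ (∀ w ∈ V, mulN v w ∈ V) ∧ ∀ g < 128, conjN g v ∈ V := by
  have h := List.all_eq_true.1 (List.all_eq_true.1 ok_sets.1 V hV) v hv
  simp only [Bool.and_eq_true, decide_eq_true_eq, List.contains_iff_mem, List.all_eq_true, List.mem_range] at h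
  exact ⟨h.1.1.1, h.1.1.2, h.1.2, h.2⟩

/-- The first normal elementary abelian subgroup of order 16. -/
def subA : Subgroup Mdl :=
  subOf setA ok_sets.2.2.2.2.2.1 fun _ h => ⟨(set_spec (by simp) h).2.1, (set_spec (by simp) h).2.2.1⟩

/-- The second normal elementary abelian subgroup of order 16. -/
def subB : Subgroup Mdl :=
  subOf setB ok_sets.2.2.2.2.2.2.1 fun _ h => ⟨(set_spec (by simp) h).2.1, (set_spec (by simp) h).2.2.1⟩

theorem card_subA : Nat.card subA = 16 :=
  (card_subOf _ _ (fun _ h => (set_spec (V := setA) (by simp) h).1) ok_sets.2.1).trans ok_sets.2.2.1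

theorem card_subB : Nat.card subB = 16 :=
  (card_subOf _ _ (fun _ h => (set_spec (V := setB) (by simp) h).1) ok_sets.2.2.2.1).trans ok_sets.2.2.2.2.1

theorem conj_subA {a : Mdl} (ha : a ∈ subA) (g : Mdl) : g * a * g⁻¹ ∈ subA := by
  show (g * a * g⁻¹).c ∈ setA
  rw [c_conj]; exact (set_spec (by simp) ha).2.2.2 _ g.v.isLt

theorem rep_subA_lt {k : Fin 8} (hk : k.val < 4) {a : Mdl} (ha : a ∈ subA) : rep k a ∈ subA := by
  have h := all_range ok_moves k.isLt
  rw [if_pos hk] at h
  show (rep k a).c ∈ setA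
  rw [c_rep]; exact List.contains_iff_mem.1 (List.all_eq_true.1 h _ ha)

theorem rep_subA_ge {k : Fin 8} (hk : 4 ≤ k.val) {a : Mdl} (ha : a ∈ subA) : rep k a ∈ subB := by
  have h := all_range ok_moves k.isLt
  rw [if_neg (by omega)] at h
  simp only [Bool.and_eq_true, List.all_eq_true] at h
  show (rep k a).c ∈ setB
  rw [c_rep]; exact List.contains_iff_mem.1 (h.1.1 _ ha)

theorem rep_move {k : Fin 8} (hk : 4 ≤ k.val) :
    of 4 ∈ subA ∧ rep k (of 4) ∉ subA ∧ of 7 ∈ subB ∧ rep k (of 7) ∉ subB := by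
  have h := all_range ok_moves k.isLt
  rw [if_neg (by omega)] at h
  simp only [Bool.and_eq_true, Bool.not_eq_true', ← Bool.not_eq_true, List.contains_iff_mem] at h
  refine ⟨?_, ?_, ?_, ?_⟩
  · show (of 4).c ∈ setA; rw [c_of (by norm_num)]; exact ok_sets.2.2.2.2.2.2.2.1
  · show ¬ (rep k (of 4)).c ∈ setA; rw [c_rep, c_of (by norm_num)]; exact h.1.2
  · show (of 7).c ∈ setB; rw [c_of (by norm_num)]; exact ok_sets.2.2.2.2.2.2.2.2
  · show ¬ (rep k (of 7)).c ∈ setB; rw [c_rep, c_of (by norm_num)]; exact h.2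

/-- The normal elementary abelian subgroups of order 16. -/
theorem normal_elem {V : Subgroup Mdl} (hn : ∀ g : Mdl, ∀ v ∈ V, g * v * g⁻¹ ∈ V)
    (hc : ∀ v ∈ V, ∀ w ∈ V, v * w = w * v) (h2 : ∀ v ∈ V, v * v = 1) (hV : Nat.card V = 16) :
    V = subA ∨ V = subB := by
  have hu : ∀ v ∈ V, v ∈ subA ∨ v ∈ subB := by
    intro v hv
    have h := all_range ok_elem v.v.isLt
    simp only [Bool.or_eq_true, List.contains_iff_mem, bne_iff_ne, List.any_eq_true, List.mem_range] at h
    rcases h with ((h | h) | h) | ⟨g, hg, h⟩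
    · exact Or.inl h
    · exact Or.inr h
    · exact absurd (by rw [← c_mul, h2 v hv, c_one]) h
    · exfalso
      have e := c_conj (of g) v
      rw [c_of hg] at e
      simp [comN, ← e, ← c_mul, hc v hv _ (hn (of g) v hv)] at h
  have hle : V ≤ subA ∨ V ≤ subB := by
    by_contra hne
    push Not at hne
    obtain ⟨⟨a, ha, ha'⟩, b, hb, hb'⟩ := And.intro (SetLike.not_le_iff_exists.1 hne.1) (SetLike.not_le_iff_exists.1 hne.2)
    have ha2 := (hu a ha).resolve_left ha'
    have hb2 := (hu b hb).resolve_right hb'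
    rcases hu (a * b) (mul_mem ha hb) with h | h
    · exact ha' ((subA.mul_mem_cancel_right hb2).1 h)
    · exact hb' ((subB.mul_mem_cancel_left ha2).1 h)
  rcases hle with h | h
  · exact Or.inl (Subgroup.eq_of_le_of_card_ge h (by rw [hV, card_subA]))
  · exact Or.inr (Subgroup.eq_of_le_of_card_ge h (by rw [hV, card_subB]))

/-- The map onto the base of the quotient. -/
theorem exists_pi (j : Fin 2) : ∃ (f : Mdl →* Mdl) (τ : Mdl), τ * τ = 1 ∧ (∀ a, f a ≠ τ) ∧
    (∀ a, f a = 1 ↔ a ∈ subZ) ∧ (∀ a, f (rep ⟨4 + j.val, by omega⟩ a) = τ * f a * τ⁻¹) ∧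
    ∀ p, ∃ a, f a = p ∨ f a * τ = p := by
  have h := all_range ok_pi j.isLt
  simp only [Bool.and_eq_true, beq_iff_eq, decide_eq_true_eq, List.all_eq_true, List.mem_range, Bool.or_eq_true,
    bne_iff_ne, List.contains_iff_mem, List.any_eq_true] at h
  obtain ⟨⟨⟨⟨⟨⟨h0, h18⟩, ht⟩, htl⟩, ha⟩, hg⟩, hs⟩ := h
  let f : Mdl →* Mdl := MonoidHom.mk' (fun a => of (piN j.val a.c)) (hom_of_gens (fun a => of (piN j.val a.c))
    (show of (piN j.val (1 : Mdl).c) = 1 by rw [c_one, h0]; rfl) fun a g hg' => by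
      show of (piN j.val (a * of g).c) = of (piN j.val a.c) * of (piN j.val (of g).c)
      rw [c_mul, c_of (gen_lt hg'), of_mul (ha _ a.v.isLt).1.1.1 (ha _ (gen_lt hg')).1.1.1,
        (ha _ a.v.isLt).2 g hg'])
  have hf : ∀ a, (f a).c = piN j.val a.c := fun a => c_of (ha _ a.v.isLt).1.1.1
  refine ⟨f, of (tauN j.val), ext' (by rw [c_mul, c_of htl, c_one, ht]), fun a e => ?_, fun a => ⟨fun e => ?_, fun e => ?_⟩,
    fun a => ?_, fun p => ?_⟩
  · exact (ha _ a.v.isLt).1.2 (by rw [← hf, e, c_of htl])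
  · exact (ha _ a.v.isLt).1.1.2.resolve_left (by rw [← hf, e, c_one]; simp)
  · refine ext' ?_
    rw [hf, c_one]
    rw [mem_subZ, ctrN, List.mem_cons, List.mem_cons] at e
    rcases e with e | e | e
    · rw [e, h0]
    · rw [e, h18]
    · simp at e
  · refine DFunLike.congr_fun (hom_ext (f := f.comp (rep ⟨4 + j.val, by omega⟩))
      (f' := (MulAut.conj (of (tauN j.val))).toMonoidHom.comp f) fun g hg' => ext' ?_) a
    show (f (rep _ (of g))).c = (of (tauN j.val) * f (of g) * (of (tauN j.val))⁻¹).c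
    rw [hf, c_rep, c_conj, hf, c_of (gen_lt hg'), c_of htl]
    exact hg g hg'
  · obtain ⟨a, hal, e⟩ := hs _ p.v.isLt
    refine ⟨of a, e.imp (fun e => ext' ?_) (fun e => ext' ?_)⟩
    · rw [hf, c_of hal, e]
    · rw [c_mul, hf, c_of hal, c_of htl, e]

end Cfsg.Lib.WreathEight
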