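import Cfsg.Agent.PGroups.WreathEight.Facts
import Cfsg.Agent.PGroups.SectionalRankFour

/-! A group of sectional 2-rank at most four containing properly a wreath product `D₈ ≀ 2`. -/

set_option autoImplicit false
set_option linter.unusedSectionVars false
set_option linter.style.haveILetI false

namespace Cfsg.Lib.WreathEight

open Mdl Subgroup

variable {S : Type*} [Group S] [Finite S] {ι : Mdl →* S} (hι : Function.Injective ι)

include hι

/-- Conjugation by a normalising element is a representative after a change inside the subgroup. -/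
theorem twist {n : S} (hn : n ∈ normalizer (ι.range : Set S)) :
    ∃ (k : Fin 8) (h : Mdl), ∀ p, n * ι h * ι p * (n * ι h)⁻¹ = ι (rep k p) := by
  set e := MonoidHom.ofInjective hι
  let c : Mdl →* ι.range := ((MulAut.conj n).toMonoidHom.comp ι).codRestrict ι.range fun p =>
    (mem_normalizer_iff.1 hn (ι p)).1 ⟨p, rfl⟩
  let f : Mdl →* Mdl := e.symm.toMonoidHom.comp c
  have hef : ∀ p, ι (f p) = n * ι p * n⁻¹ := fun p => by
    have h1 : (e (f p) : S) = ι (f p) := MonoidHom.ofInjective_apply hι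
    rw [← h1]
    show ((e (e.symm (c p))) : S) = _
    rw [MulEquiv.apply_symm_apply]
    rfl
  have hf : Function.Injective f := fun a b h => hι (by
    have := congrArg ι h
    rw [hef, hef] at this
    simpa using this)
  obtain ⟨k, g, hk⟩ := aut_cases (MulEquiv.ofBijective f (Finite.injective_iff_bijective.1 hf))
  refine ⟨k, g⁻¹, fun p => ?_⟩
  have := hef (g⁻¹ * p * g)
  rw [show f (g⁻¹ * p * g) = rep k p by
    have := hk (g⁻¹ * p * g)
    rw [MulEquiv.ofBijective_apply] at this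
    rw [this]; congr 1; group] at this
  rw [this]
  simp [mul_assoc]

theorem mem_range_inv {n : S} {h : Mdl} : n * ι h ∈ ι.range ↔ n ∈ ι.range :=
  ι.range.mul_mem_cancel_right ⟨h, rfl⟩

/-- The square of a twisting element inducing a representative of order two is central. -/
theorem sq_central {y : S} {k : Fin 8} (hk : k.val < 6) (hy : ∀ p, y * ι p * y⁻¹ = ι (rep k p))
    (hyy : y * y ∈ ι.range) : ∃ z ∈ subZ, ι z = y * y := by
  obtain ⟨z, hz⟩ := hyy
  refine ⟨z, mem_subZ_of_commute fun a => hι ?_, hz⟩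
  rw [map_mul, map_mul, hz]
  have h := hy (rep k a)
  rw [rep_rep hk, ← hy] at h
  calc y * y * ι a = y * (y * ι a * y⁻¹) * y⁻¹ * (y * y) := by group
    _ = ι a * (y * y) := by rw [h]

/-- No element outside induces a representative fixing the two normal subgroups. -/
theorem no_fix (hr : Cfsg.SectionalPRankLE 2 4 S) {y : S} (hy0 : y ∉ ι.range) (hyy : y * y ∈ ι.range)
    {k : Fin 8} (hk : k.val < 4) (hy : ∀ p, y * ι p * y⁻¹ = ι (rep k p)) : False := by
  classical
  obtain ⟨z, hz, hzy⟩ := sq_central hι (by omega) hy hyy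
  have hzW := subZ_le_subW hz
  have hmove : ∀ w, y * ι w = ι (rep k w) * y := fun w => by rw [← hy]; group
  let U : Subgroup S :=
    { carrier := {x | ∃ w ∈ subW, x = ι w ∨ x = ι w * y}
      one_mem' := ⟨1, subW.one_mem, Or.inl (map_one ι).symm⟩
      mul_mem' := by
        rintro a b ⟨v, hv, ha⟩ ⟨w, hw, hb⟩
        rcases ha with rfl | rfl <;> rcases hb with rfl | rfl
        · exact ⟨v * w, mul_mem hv hw, Or.inl (map_mul ι v w).symm⟩
        · exact ⟨v * w, mul_mem hv hw, Or.inr (by rw [map_mul, mul_assoc])⟩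
        · exact ⟨v * rep k w, mul_mem hv (rep_mem_subW hk hw).1, Or.inr (by rw [map_mul, mul_assoc, hmove, mul_assoc])⟩
        · exact ⟨v * rep k w * z, mul_mem (mul_mem hv (rep_mem_subW hk hw).1) hzW, Or.inl (by
            rw [map_mul, map_mul, hzy, show ι v * y * (ι w * y) = ι v * (y * ι w) * y by group, hmove]; group)⟩
      inv_mem' := by
        rintro a ⟨v, hv, ha⟩
        rcases ha with rfl | rfl
        · exact ⟨v⁻¹, inv_mem hv, Or.inl (map_inv ι v).symm⟩
        · refine ⟨z⁻¹ * rep k v⁻¹, mul_mem (inv_mem hzW) (rep_mem_subW hk (inv_mem hv)).1, Or.inr ?_⟩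
          rw [map_mul, map_inv, hzy, mul_assoc, ← hmove, map_inv]; group }
  set N : Subgroup S := subZ.map ι with hN
  have hUN : U ≤ normalizer (N : Set S) := by
    refine le_trans ?_ (centralizer_le_normalizer _)
    rintro x ⟨w, hw, hx⟩
    rw [mem_centralizer_iff]
    rintro _ ⟨t, ht, rfl⟩
    have hty : ι t * y = y * ι t := by rw [hmove, rep_subZ k ht]
    rcases hx with rfl | rfl
    · rw [← map_mul, ← map_mul, commute_subZ ht]
    · rw [← mul_assoc, ← map_mul, commute_subZ ht, map_mul, mul_assoc, hty, mul_assoc]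
  have hsq : ∀ u ∈ U, u * u ∈ N := by
    rintro x ⟨w, hw, hx⟩
    rcases hx with rfl | rfl
    · exact ⟨w * w, sq_mem_subZ hw, map_mul _ _ _⟩
    · refine ⟨w * rep k w * z, mul_mem (rep_mem_subW hk hw).2 hz, ?_⟩
      rw [map_mul, map_mul, hzy, show ι w * y * (ι w * y) = ι w * (y * ι w) * y by group, hmove]; group
  have hNU : N ≤ U := by
    rintro _ ⟨t, ht, rfl⟩
    exact ⟨t, subZ_le_subW ht, Or.inl rfl⟩
  have hb := Cfsg.Lib.SectionalRank.sectional_bound hr hUN hsq
  have hcN : Nat.card N = 2 := by rw [hN, card_map_of_injective hι, card_subZ]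
  have hcU : 64 ≤ Nat.card U := by
    let f : subW × Bool → U := fun p => if p.2 then ⟨ι p.1 * y, p.1, p.1.2, Or.inr rfl⟩ else ⟨ι p.1, p.1, p.1.2, Or.inl rfl⟩
    have hf : Function.Injective f := by
      rintro ⟨a, i⟩ ⟨b, j⟩ e
      cases i <;> cases j <;> simp only [f, Bool.false_eq_true, ite_false, ite_true, Subtype.mk.injEq] at e
      · rw [Subtype.ext (hι e)]
      · exfalso
        refine hy0 ⟨b.1⁻¹ * a.1, ?_⟩
        rw [map_mul, map_inv, e]; group
      · exfalso
        refine hy0 ⟨a.1⁻¹ * b.1, ?_⟩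
        rw [map_mul, map_inv, ← e]; group
      · rw [Subtype.ext (hι (mul_right_cancel e))]
    have := Nat.card_le_card_of_injective f hf
    rwa [Nat.card_prod, card_subW, Nat.card_eq_fintype_card, Fintype.card_bool] at this
  have h2 := (N.subgroupOf U).card_mul_index
  rw [← relIndex, Nat.card_congr (subgroupOfEquivOfLe hNU).toEquiv, hcN] at h2
  norm_num at hb
  omega

/-- A normalising element outside with square inside exchanges the two normal subgroups. -/
theorem outside (hr : Cfsg.SectionalPRankLE 2 4 S) {n : S} (hn : n ∈ normalizer (ι.range : Set S))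
    (hn0 : n ∉ ι.range) (hnn : n * n ∈ ι.range) :
    ∃ (k : Fin 8) (h : Mdl), 4 ≤ k.val ∧ k.val < 6 ∧ (∀ p, n * ι h * ι p * (n * ι h)⁻¹ = ι (rep k p)) ∧
      n * ι h * (n * ι h) ∈ ι.range := by
  obtain ⟨k, h, hk⟩ := twist hι hn
  have hy0 : n * ι h ∉ ι.range := fun e => hn0 ((mem_range_inv hι).1 e)
  have hyy : n * ι h * (n * ι h) ∈ ι.range := by
    rw [show n * ι h * (n * ι h) = n * ι h * n⁻¹ * (n * n) * ι h by group]
    exact mul_mem (mul_mem ((mem_normalizer_iff.1 hn _).1 ⟨h, rfl⟩) hnn) ⟨h, rfl⟩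
  refine ⟨k, h, ?_, ?_, hk, hyy⟩
  · by_contra hlt
    exact no_fix hι hr hy0 hyy (by omega) hk
  · by_contra hge
    obtain ⟨g, hg⟩ := hyy
    obtain ⟨p, hp⟩ := rep_outer (k := k) (by omega) g
    refine hp (hι ?_)
    rw [map_mul, map_mul, map_inv, hg, ← hk, ← hk]
    group

variable (h2 : IsPGroup 2 S) (hr : Cfsg.SectionalPRankLE 2 4 S)

include h2

omit hι in
theorem exists_sq {H : Subgroup S} {n : S} (hn : n ∉ H) : ∃ j : ℕ, n ^ 2 ^ j ∉ H ∧ n ^ 2 ^ j * n ^ 2 ^ j ∈ H := by
  classical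
  obtain ⟨m, hm⟩ := h2 n
  have hex : ∃ i, n ^ 2 ^ i ∈ H := ⟨m, hm ▸ H.one_mem⟩
  obtain ⟨j, hj⟩ : ∃ j, Nat.find hex = j + 1 := ⟨Nat.find hex - 1, by
    have : Nat.find hex ≠ 0 := fun h => hn (by simpa [h] using Nat.find_spec hex)
    omega⟩
  refine ⟨j, Nat.find_min hex (by omega), ?_⟩
  rw [← pow_add, ← two_mul, ← pow_succ', ← hj]
  exact Nat.find_spec hex

include hr

theorem centralizer_le : centralizer (ι.range : Set S) ≤ ι.range := by
  intro c hc
  by_contra hc0
  obtain ⟨j, hj, hjj⟩ := exists_sq h2 hc0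
  refine no_fix hι hr hj hjj (k := 0) (by decide) fun p => ?_
  have e : rep 0 = MonoidHom.id Mdl := hom_ext fun g hg => ext' (by
    show (rep 0 (of g)).c = (of g).c
    rw [c_rep, c_of (gen_lt hg)]; revert g; decide +kernel)
  rw [e, MonoidHom.id_apply, ← mem_centralizer_iff.1 (pow_mem hc _) _ ⟨p, rfl⟩, mul_inv_cancel_right]

theorem center_eq_map : center S = subZ.map ι := by
  haveI : Fact (Nat.Prime 2) := ⟨Nat.prime_two⟩
  have hle : center S ≤ subZ.map ι := by
    intro x hx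
    obtain ⟨z, rfl⟩ := centralizer_le hι h2 hr (center_le_centralizer _ hx)
    exact ⟨z, mem_subZ_of_commute fun a => hι (by rw [map_mul, map_mul, mem_center_iff.1 hx (ι a)]), rfl⟩
  refine eq_of_le_of_card_ge hle ?_
  haveI : Nontrivial S := ⟨⟨ι (of 4), 1, fun e => by
    have := congrArg Mdl.c (hι (e.trans (map_one ι).symm))
    rw [c_of (by norm_num), c_one] at this
    exact absurd this (by norm_num)⟩⟩
  haveI := h2.center_nontrivial
  rw [card_map_of_injective hι, card_subZ]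
  exact Finite.one_lt_card

theorem card_center : Nat.card (center S) = 2 := by
  rw [center_eq_map hι h2 hr, card_map_of_injective hι, card_subZ]

/-- An element normalising the subgroup and one of its two normal subgroups lies in it. -/
theorem stab_mem {n : S} (hn : n ∈ normalizer (ι.range : Set S)) {V : Subgroup Mdl} {v : Mdl} (hv : v ∈ V)
    (hVn : ∀ g, ∀ a ∈ V, g * a * g⁻¹ ∈ V) (hmove : ∀ k : Fin 8, 4 ≤ k.val → rep k v ∉ V)
    (hnV : n ∈ normalizer (V.map ι : Set S)) : n ∈ ι.range := by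
  by_contra hn0
  obtain ⟨j, hj, hjj⟩ := exists_sq h2 hn0
  obtain ⟨k, h, hk4, -, hk, -⟩ := outside hι hr (pow_mem hn _) hj hjj
  refine hmove k hk4 ?_
  have h1 : n ^ 2 ^ j * ι h * ι v * (n ^ 2 ^ j * ι h)⁻¹ ∈ V.map ι := by
    rw [show n ^ 2 ^ j * ι h * ι v * (n ^ 2 ^ j * ι h)⁻¹ = n ^ 2 ^ j * ι (h * v * h⁻¹) * (n ^ 2 ^ j)⁻¹ by
      rw [map_mul, map_mul, map_inv]; group]
    exact (mem_normalizer_iff.1 (pow_mem hnV _) _).1 (mem_map_of_mem ι (hVn h v hv))
  rw [hk] at h1
  obtain ⟨a, ha, e⟩ := h1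
  exact hι e ▸ ha

theorem stabA {n : S} (hn : n ∈ normalizer (ι.range : Set S)) (hnV : n ∈ normalizer (subA.map ι : Set S)) :
    n ∈ ι.range :=
  stab_mem hι h2 hr hn (rep_move (k := 4) (by decide)).1 (fun g _ ha => conj_subA ha g)
    (fun _ hk => (rep_move hk).2.1) hnV

theorem index_two (hlt : ι.range ≠ ⊤) : ι.range.relIndex (normalizer (ι.range : Set S)) = 2 := by
  haveI : Fact (Nat.Prime 2) := ⟨Nat.prime_two⟩
  haveI := h2.isNilpotent
  have hN : ι.range < normalizer (ι.range : Set S) := Group.normalizerCondition_of_isNilpotent _ hlt.lt_top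
  have hB : ∀ n ∈ normalizer (ι.range : Set S), n ∉ ι.range →
      subA.map (((MulAut.conj n).toMonoidHom).comp ι) = subB.map ι := by
    intro n hn hn0
    obtain ⟨k, h, hk⟩ := twist hι hn
    set y := n * ι h
    have e1 : ∀ a, n * ι a * n⁻¹ = ι (rep k (h⁻¹ * a * h)) := fun a => by
      rw [← hk, map_mul, map_mul, map_inv]
      show n * ι a * n⁻¹ = n * ι h * ((ι h)⁻¹ * ι a * ι h) * (n * ι h)⁻¹
      group
    have hh : ∀ a ∈ subA, h⁻¹ * a * h ∈ subA := fun a ha => by simpa using conj_subA ha h⁻¹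
    have hcard : Nat.card (subA.map (((MulAut.conj n).toMonoidHom).comp ι)) = 16 := by
      rw [card_map_of_injective (((MulAut.conj n).injective).comp hι), card_subA]
    by_cases hk4 : k.val < 4
    · exfalso
      refine hn0 (stabA hι h2 hr hn ?_)
      rw [mem_normalizer_iff_map_conj_eq, map_map]
      refine eq_of_le_of_card_ge ?_ (le_of_eq ((card_map_of_injective hι).trans (card_subA.trans hcard.symm)))
      rintro _ ⟨a, ha, rfl⟩
      exact ⟨_, rep_subA_lt hk4 (hh a ha), (e1 a).symm⟩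
    · refine eq_of_le_of_card_ge ?_ (by rw [hcard, card_map_of_injective hι, card_subB])
      rintro _ ⟨a, ha, rfl⟩
      exact ⟨_, rep_subA_ge (by omega) (hh a ha), (e1 a).symm⟩
  obtain ⟨n0, hn0, hn0'⟩ := SetLike.exists_of_lt hN
  rw [relIndex, index_eq_two_iff]
  refine ⟨⟨n0⁻¹, inv_mem hn0⟩, fun ⟨m, hm⟩ => ?_⟩
  simp only [mem_subgroupOf, Subgroup.coe_mul]
  by_cases hm' : m ∈ ι.range
  · exact Or.inr ⟨hm', fun e => hn0' (by simpa using (ι.range.mul_mem_cancel_left hm').1 e)⟩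
  refine Or.inl ⟨?_, hm'⟩
  have hnA : n0⁻¹ * m ∈ normalizer (subA.map ι : Set S) := by
    rw [mem_normalizer_iff_map_conj_eq]
    have hcomp : (MulAut.conj (n0⁻¹ * m)).toMonoidHom =
        ((MulAut.conj n0).symm.toMonoidHom).comp (MulAut.conj m).toMonoidHom :=
      MonoidHom.ext fun x => by simp [mul_assoc]
    show (subA.map ι).map (MulAut.conj (n0⁻¹ * m)).toMonoidHom = subA.map ι
    rw [map_map, hcomp, MonoidHom.comp_assoc, ← map_map]
    rw [hB m hm hm', ← hB n0 hn0 hn0', map_map]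
    exact congrArg (fun f => map f subA) (MonoidHom.ext fun x => by simp [mul_assoc])
  have h1 : n0⁻¹ * m ∈ ι.range := stabA hι h2 hr (mul_mem (inv_mem hn0) hm) hnA
  have h3 : m * n0⁻¹ = n0 * (n0⁻¹ * m) * n0⁻¹ := by group
  rw [h3]
  exact (mem_normalizer_iff.1 hn0 _).1 h1

/-- The normaliser modulo the centre. -/
theorem exists_quot (hlt : ι.range ≠ ⊤) :
    ∃ f : ↥(normalizer (ι.range : Set S)) →* Mdl, Function.Surjective f ∧
      ∀ x, f x = 1 ↔ (x : S) ∈ center S := by
  classical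
  set N := normalizer (ι.range : Set S) with hN
  have hidx := index_two hι h2 hr hlt
  have hsq : ∀ n ∈ N, n * n ∈ ι.range := fun n hn => by
    have := mul_self_mem_of_index_two (H := ι.range.subgroupOf N) hidx ⟨n, hn⟩
    exact mem_subgroupOf.1 this
  obtain ⟨n0, hn0, hn0'⟩ : ∃ n ∈ N, n ∉ ι.range := by
    by_contra hno
    push Not at hno
    rw [relIndex_eq_one.2 hno] at hidx
    exact absurd hidx (by norm_num)
  obtain ⟨k, h, hk4, hk6, hk, hyy⟩ := outside hι hr hn0 hn0' (hsq _ hn0)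
  set y := n0 * ι h with hy
  have hyN : y ∈ N := mul_mem hn0 (le_normalizer ⟨h, rfl⟩)
  have hy0 : y ∉ ι.range := fun e => hn0' ((mem_range_inv hι).1 e)
  obtain ⟨z, hz, hzy⟩ := sq_central hι hk6 hk hyy
  obtain ⟨π, τ, hτ, hτr, hker, hconj, hsurj⟩ := exists_pi ⟨k.val - 4, by omega⟩
  replace hconj : ∀ a, π (rep k a) = τ * π a * τ⁻¹ := fun a => by
    simpa [show (⟨4 + (k.val - 4), by omega⟩ : Fin 8) = k from Fin.ext (by simp; omega)] using hconj a
  have hdec : ∀ x : N, ∃ a, (x : S) = ι a ∨ (x : S) = ι a * y := by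
    rintro ⟨x, hx⟩
    by_cases hx0 : x ∈ ι.range
    · obtain ⟨a, rfl⟩ := hx0; exact ⟨a, Or.inl rfl⟩
    · have := (mul_mem_iff_of_index_two (H := ι.range.subgroupOf N) hidx
        (a := ⟨x, hx⟩) (b := ⟨y⁻¹, inv_mem hyN⟩)).2 (by simp [mem_subgroupOf, hx0, hy0])
      obtain ⟨a, ha⟩ := mem_subgroupOf.1 this
      exact ⟨a, Or.inr (by rw [ha]; simp)⟩
  choose d hd using hdec
  let F : N → Mdl := fun x => if (x : S) ∈ ι.range then π (d x) else π (d x) * τ
  have hF1 : ∀ x : N, ∀ a, (x : S) = ι a → F x = π a := fun x a e => by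
    have hx : (x : S) ∈ ι.range := ⟨a, e.symm⟩
    rcases hd x with e' | e'
    · simp only [F, if_pos hx, hι (e'.symm.trans e)]
    · exact absurd ((ι.range.mul_mem_cancel_left ⟨_, rfl⟩).1 (e' ▸ hx)) hy0
  have hF2 : ∀ x : N, ∀ a, (x : S) = ι a * y → F x = π a * τ := fun x a e => by
    have hx : (x : S) ∉ ι.range := fun h' => hy0 ((ι.range.mul_mem_cancel_left ⟨_, rfl⟩).1 (e ▸ h'))
    rcases hd x with e' | e'
    · exact absurd ⟨_, e'.symm⟩ hx
    · simp only [F, if_neg hx, hι (mul_right_cancel (e'.symm.trans e))]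
  have hmove : ∀ w, y * ι w = ι (rep k w) * y := fun w => by rw [← hk]; group
  have hπz : π z = 1 := (hker z).2 hz
  have hmul : ∀ u v : N, F (u * v) = F u * F v := by
    intro u v
    rcases hd u with eu | eu <;> rcases hd v with ev | ev
    · rw [hF1 u _ eu, hF1 v _ ev, hF1 (u * v) (d u * d v) (by rw [Subgroup.coe_mul, eu, ev, map_mul]), map_mul]
    · rw [hF1 u _ eu, hF2 v _ ev, hF2 (u * v) (d u * d v) (by rw [Subgroup.coe_mul, eu, ev, map_mul, mul_assoc]),
        map_mul, mul_assoc]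
    · rw [hF2 u _ eu, hF1 v _ ev, hF2 (u * v) (d u * rep k (d v)) (by
        rw [Subgroup.coe_mul, eu, ev, map_mul, mul_assoc, hmove, mul_assoc]), map_mul, hconj]
      group
    · rw [hF2 u _ eu, hF2 v _ ev, hF1 (u * v) (d u * rep k (d v) * z) (by
        rw [Subgroup.coe_mul, eu, ev, map_mul, map_mul, hzy,
          show ι (d u) * y * (ι (d v) * y) = ι (d u) * (y * ι (d v)) * y by group, hmove]
        group), map_mul, map_mul, hπz, mul_one, hconj]
      rw [show τ⁻¹ = τ from inv_eq_of_mul_eq_one_left hτ]; group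
  refine ⟨MonoidHom.mk' F hmul, fun p => ?_, fun x => ?_⟩
  · obtain ⟨a, e | e⟩ := hsurj p
    · exact ⟨⟨ι a, le_normalizer ⟨a, rfl⟩⟩, (hF1 _ a rfl).trans e⟩
    · exact ⟨⟨ι a * y, mul_mem (le_normalizer ⟨a, rfl⟩) hyN⟩, (hF2 _ a rfl).trans e⟩
  · show F x = 1 ↔ _
    rw [center_eq_map hι h2 hr]
    constructor
    · intro e
      rcases hd x with ex | ex
      · exact ⟨d x, (hker _).1 ((hF1 x _ ex).symm.trans e), ex.symm⟩
      · rw [hF2 x _ ex, mul_eq_one_iff_eq_inv, inv_eq_of_mul_eq_one_left hτ] at e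
        exact absurd e (hτr _)
    · rintro ⟨a, ha, e⟩
      rw [hF1 x a e.symm]; exact (hker a).2 ha

theorem normalizer_eq {V : Subgroup S} (hVP : V ≤ ι.range) (hVn : ∀ g ∈ ι.range, ∀ v ∈ V, g * v * g⁻¹ ∈ V)
    (hVe : Cfsg.IsElementaryAbelian 2 V) (hV : Nat.card V = 16) : normalizer (V : Set S) = ι.range := by
  haveI : Fact (Nat.Prime 2) := ⟨Nat.prime_two⟩
  haveI := h2.isNilpotent
  have hle : ι.range ≤ normalizer (V : Set S) := fun g hg => mem_normalizer_iff.2 fun v =>
    ⟨hVn g hg v, fun h => by simpa [mul_assoc] using hVn g⁻¹ (inv_mem hg) _ h⟩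
  set W := V.comap ι
  have hW : W.map ι = V := map_comap_eq_self hVP
  have hWn : ∀ g, ∀ a ∈ W, g * a * g⁻¹ ∈ W := fun g a ha => by
    rw [mem_comap, map_mul, map_mul, map_inv]; exact hVn _ ⟨g, rfl⟩ _ ha
  have hWAB : W = subA ∨ W = subB := by
    refine normal_elem hWn (fun a ha b hb => hι ?_) (fun a ha => hι ?_) ?_
    · rw [map_mul, map_mul]
      haveI := hVe.1
      exact congrArg Subtype.val (mul_comm' (⟨ι a, ha⟩ : V) ⟨ι b, hb⟩)
    · rw [map_mul, map_one, ← pow_two]; exact hVe.2 _ ha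
    · rw [← hV, ← hW, card_map_of_injective hι]
  refine le_antisymm ?_ hle
  by_contra hne
  set M := normalizer (V : Set S)
  have hlt : ι.range.subgroupOf M < ⊤ := lt_top_iff_ne_top.2 fun e => hne (subgroupOf_eq_top.1 e)
  obtain ⟨⟨m, hmM⟩, hm, hm'⟩ := SetLike.exists_of_lt (Group.normalizerCondition_of_isNilpotent _ hlt)
  have hmN : m ∈ normalizer (ι.range : Set S) := mem_normalizer_iff.2 fun a => by
    constructor
    · intro ha
      exact mem_subgroupOf.1 ((mem_normalizer_iff.1 hm ⟨a, hle ha⟩).1 (mem_subgroupOf.2 ha))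
    · intro ha
      have haM : a ∈ M := by
        simpa [mul_assoc] using mul_mem (mul_mem (inv_mem hmM) (hle ha)) hmM
      exact mem_subgroupOf.1 ((mem_normalizer_iff.1 hm ⟨a, haM⟩).2 (mem_subgroupOf.2 ha))
  refine hm' (mem_subgroupOf.2 ?_)
  rcases hWAB with e | e
  · exact stabA hι h2 hr hmN (by rw [← e, hW]; exact hmM)
  · exact stab_mem hι h2 hr hmN (e.symm ▸ (rep_move (k := 4) (by decide)).2.2.1) hWn
      (fun _ hk => e.symm ▸ (rep_move hk).2.2.2) (by rw [hW]; exact hmM)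

end Cfsg.Lib.WreathEight
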