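import Cfsg.Agent.PGroups.WreathEight.Data

/-! The wreath product of a dihedral group of order eight by a group of order two, coded on `Fin 128`, and its
automorphisms. -/

set_option autoImplicit false
set_option maxRecDepth 100000

namespace Cfsg.Lib.WreathEight

/-- The product of two codes of the dihedral group: `k + 4 * s` stands for `r ^ k * a ^ s`. -/
def dmul (u v : ℕ) : ℕ :=
  (u % 4 + if u / 4 = 1 then 4 - v % 4 else v % 4) % 4 + 4 * ((u / 4 + v / 4) % 2)

/-- The inverse of a code of the dihedral group. -/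
def dinv (u : ℕ) : ℕ := if u / 4 = 1 then u else (4 - u) % 4

/-- The product of codes: `x + 8 * y + 64 * e` stands for `(x, y) * t ^ e`. -/
def mulN (p q : ℕ) : ℕ :=
  if p / 64 = 1 then dmul (p % 8) (q / 8 % 8) + 8 * dmul (p / 8 % 8) (q % 8) + 64 * ((1 + q / 64) % 2)
  else dmul (p % 8) (q % 8) + 8 * dmul (p / 8 % 8) (q / 8 % 8) + 64 * (q / 64)

/-- The inverse of a code. -/
def invN (p : ℕ) : ℕ :=
  if p / 64 = 1 then dinv (p / 8 % 8) + 8 * dinv (p % 8) + 64 else dinv (p % 8) + 8 * dinv (p / 8 % 8)

/-- The generators. -/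
def gensN : List ℕ := [4, 7, 64]

theorem ok_base : (List.range 128).all (fun a => mulN 0 a == a && mulN a 0 == a && mulN (invN a) a == 0 &&
    decide (invN a < 128) && (List.range 128).all fun b => decide (mulN a b < 128)) = true := by decide +kernel

theorem ok_light : (List.range 128).all (fun a => gensN.all fun g => (List.range 128).all fun c =>
    mulN (mulN a g) c == mulN a (mulN g c)) = true := by decide +kernel

theorem ok_tree : (List.range 128).all (fun h => h == 0 || (decide (parent.getD h 0 < 128) &&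
    decide (depth.getD (parent.getD h 0) 0 < depth.getD h 0) && gensN.contains (letter.getD h 0) &&
    mulN (parent.getD h 0) (letter.getD h 0) == h)) = true := by decide +kernel

theorem all_range {n : ℕ} {f : ℕ → Bool} (h : (List.range n).all f = true) {i : ℕ} (hi : i < n) : f i = true :=
  List.all_eq_true.1 h i (List.mem_range.2 hi)

theorem base {a : ℕ} (ha : a < 128) : mulN 0 a = a ∧ mulN a 0 = a ∧ mulN (invN a) a = 0 ∧ invN a < 128 ∧
    ∀ b < 128, mulN a b < 128 := by
  have h := all_range ok_base ha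
  simp only [Bool.and_eq_true, beq_iff_eq, decide_eq_true_eq] at h
  exact ⟨h.1.1.1.1, h.1.1.1.2, h.1.1.2, h.1.2, fun b hb => of_decide_eq_true (all_range h.2 hb)⟩

theorem gen_lt {g : ℕ} (hg : g ∈ gensN) : g < 128 := by
  simp only [gensN, List.mem_cons, List.not_mem_nil, or_false] at hg
  omega

theorem gen_induction {P : ℕ → Prop} (h0 : P 0) (step : ∀ a < 128, ∀ g ∈ gensN, P a → P (mulN a g)) :
    ∀ h < 128, P h := by
  suffices ∀ n, ∀ h < 128, depth.getD h 0 < n → P h from fun h hh => this _ h hh (Nat.lt_succ_self _)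
  intro n
  induction n with
  | zero => intro h _ hn; omega
  | succ n ih =>
    intro h hh hn
    have e := all_range ok_tree hh
    simp only [Bool.or_eq_true, Bool.and_eq_true, beq_iff_eq, decide_eq_true_eq, List.contains_iff_mem] at e
    rcases e with rfl | ⟨⟨⟨h1, h2⟩, h3⟩, h4⟩
    · exact h0
    · rw [← h4]
      exact step _ h1 _ h3 (ih _ h1 (by omega))

theorem assoc {b : ℕ} (hb : b < 128) :
    ∀ a < 128, ∀ c < 128, mulN (mulN a b) c = mulN a (mulN b c) := by
  refine gen_induction (P := fun b => ∀ a < 128, ∀ c < 128, mulN (mulN a b) c = mulN a (mulN b c)) ?_ ?_ b hb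
  · intro a ha c hc; rw [(base ha).2.1, (base hc).1]
  · intro b hb g hg ih a ha c hc
    have L : ∀ x < 128, ∀ z < 128, mulN (mulN x g) z = mulN x (mulN g z) := fun x hx z hz => by
      have h := List.all_eq_true.1 (all_range ok_light hx) g hg
      exact beq_iff_eq.1 (all_range h hz)
    rw [← ih a ha g (gen_lt hg), L _ ((base ha).2.2.2.2 b hb) c hc,
      ih a ha _ ((base (gen_lt hg)).2.2.2.2 c hc), L b hb c hc]

/-- The group of codes. -/
structure Mdl where
  /-- The code. -/
  v : Fin 128
  deriving DecidableEq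

namespace Mdl

/-- The code as a natural number. -/
abbrev c (a : Mdl) : ℕ := a.v.val

instance : Fintype Mdl := Fintype.ofEquiv (Fin 128) ⟨Mdl.mk, Mdl.v, fun _ => rfl, fun _ => rfl⟩

theorem ext' {a b : Mdl} (h : a.c = b.c) : a = b := by
  obtain ⟨a⟩ := a; obtain ⟨b⟩ := b; exact congrArg Mdl.mk (Fin.ext h)

/-- The element of a code. -/
def of (n : ℕ) : Mdl := ⟨⟨n % 128, Nat.mod_lt _ (by norm_num)⟩⟩

theorem c_of {n : ℕ} (h : n < 128) : (of n).c = n := Nat.mod_eq_of_lt h

theorem of_c (a : Mdl) : of a.c = a := ext' (c_of a.v.isLt)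

instance : Mul Mdl := ⟨fun a b => of (mulN a.c b.c)⟩
instance : One Mdl := ⟨of 0⟩
instance : Inv Mdl := ⟨fun a => of (invN a.c)⟩

theorem c_mul (a b : Mdl) : (a * b).c = mulN a.c b.c := c_of ((base a.v.isLt).2.2.2.2 _ b.v.isLt)

theorem c_one : (1 : Mdl).c = 0 := c_of (by norm_num)

theorem c_inv (a : Mdl) : a⁻¹.c = invN a.c := c_of (base a.v.isLt).2.2.2.1

instance : Group Mdl where
  mul_assoc a b c := ext' (by simp only [c_mul]; exact assoc b.v.isLt _ a.v.isLt _ c.v.isLt)
  one_mul a := ext' (by rw [c_mul, c_one]; exact (base a.v.isLt).1)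
  mul_one a := ext' (by rw [c_mul, c_one]; exact (base a.v.isLt).2.1)
  inv_mul_cancel a := ext' (by rw [c_mul, c_inv, c_one]; exact (base a.v.isLt).2.2.1)

theorem of_mul {a b : ℕ} (ha : a < 128) (hb : b < 128) : of a * of b = of (mulN a b) :=
  ext' (by rw [c_mul, c_of ha, c_of hb, c_of ((base ha).2.2.2.2 b hb)])

theorem card : Nat.card Mdl = 128 := by
  rw [Nat.card_congr (⟨Mdl.v, Mdl.mk, fun _ => rfl, fun _ => rfl⟩ : Mdl ≃ Fin 128), Nat.card_fin]

theorem hom_of_gens {M : Type*} [Monoid M] (f : Mdl → M) (h1 : f 1 = 1)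
    (hg : ∀ a, ∀ g ∈ gensN, f (a * of g) = f a * f (of g)) (a b : Mdl) : f (a * b) = f a * f b := by
  refine (fun hb => ?_) (gen_induction (P := fun b => ∀ a, f (a * of b) = f a * f (of b)) ?_ ?_ b.c b.v.isLt)
  · simpa only [of_c] using hb a
  · intro a
    rw [show of 0 = (1 : Mdl) from rfl, mul_one, h1, mul_one]
  · intro b hb g hg' ih a
    rw [← of_mul hb (gen_lt hg'), ← mul_assoc, hg _ g hg', ih, hg _ g hg', mul_assoc]

theorem hom_ext {M : Type*} [Monoid M] {f f' : Mdl →* M} (h : ∀ g ∈ gensN, f (of g) = f' (of g)) : f = f' := by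
  refine MonoidHom.ext fun a => ?_
  rw [← of_c a]
  refine gen_induction (P := fun b => f (of b) = f' (of b)) ?_ ?_ a.c a.v.isLt
  · rw [show of 0 = (1 : Mdl) from rfl, map_one, map_one]
  · intro b hb g hg ih
    rw [← of_mul hb (gen_lt hg), map_mul, map_mul, ih, h g hg]

end Mdl

open Mdl

/-! ### Eight points -/

/-- Exchange of `1` and `2`. -/
def mid (i : ℕ) : ℕ := if i = 1 then 2 else if i = 2 then 1 else i

/-- The action of a dihedral code on four points. -/
def act (u i : ℕ) : ℕ := mid ((mid (if u / 4 = 1 then (if i = 0 then 1 else if i = 1 then 0 else i) else i) + u % 4) % 4)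

/-- The action of a code on eight points. -/
def permN (p i : ℕ) : ℕ :=
  let j := if p / 64 = 1 then (i + 4) % 8 else i
  if j < 4 then act (p % 8) j else 4 + act (p / 8 % 8) (j - 4)

theorem ok_perm : (List.range 128).all (fun p => (List.range 8).all fun i => decide (permN p i < 8) &&
    permN (invN p) (permN p i) == i && permN p (permN (invN p) i) == i &&
    gensN.all fun g => permN (mulN p g) i == permN p (permN g i)) = true := by decide +kernel

theorem ok_perm_inj : (List.range 128).all (fun p => p == 0 || (List.range 8).any fun i => permN p i != i) = true := by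
  decide +kernel

theorem perm_spec {p i : ℕ} (hp : p < 128) (hi : i < 8) : permN p i < 8 ∧ permN (invN p) (permN p i) = i ∧
    permN p (permN (invN p) i) = i ∧ ∀ g ∈ gensN, permN (mulN p g) i = permN p (permN g i) := by
  have h := all_range (all_range ok_perm hp) hi
  simp only [Bool.and_eq_true, beq_iff_eq, decide_eq_true_eq, List.all_eq_true] at h
  exact ⟨h.1.1.1, h.1.1.2, h.1.2, fun g hg => by simpa using h.2 g hg⟩

/-- The permutation of a code. -/
def toPerm (a : Mdl) : Equiv.Perm (Fin 8) where
  toFun i := ⟨permN a.c i, (perm_spec a.v.isLt i.isLt).1⟩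
  invFun i := ⟨permN (invN a.c) i, (perm_spec (base a.v.isLt).2.2.2.1 i.isLt).1⟩
  left_inv i := Fin.ext (perm_spec a.v.isLt i.isLt).2.1
  right_inv i := Fin.ext (perm_spec a.v.isLt i.isLt).2.2.1

theorem toPerm_one : toPerm 1 = 1 := Equiv.ext fun i => Fin.ext (by
  show permN (1 : Mdl).c i = i
  rw [c_one]; revert i; decide)

/-- The representation on eight points. -/
def permHom : Mdl →* Equiv.Perm (Fin 8) :=
  MonoidHom.mk' toPerm (Mdl.hom_of_gens toPerm toPerm_one fun a g hg => Equiv.ext fun i => Fin.ext (by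
    show permN (a * of g).c i = permN a.c (permN (of g).c i)
    rw [c_mul, c_of (gen_lt hg)]
    exact (perm_spec a.v.isLt i.isLt).2.2.2 g hg))

theorem permHom_injective : Function.Injective permHom := by
  rw [injective_iff_map_eq_one]
  intro a h
  refine ext' ?_
  rw [c_one]
  have e := all_range ok_perm_inj a.v.isLt
  simp only [Bool.or_eq_true, beq_iff_eq, List.any_eq_true, List.mem_range, bne_iff_ne] at e
  rcases e with e | ⟨i, hi, hne⟩
  · exact e
  · exfalso
    refine hne ?_
    have := congrArg Fin.val (DFunLike.congr_fun h (⟨i, hi⟩ : Fin 8))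
    exact this

/-! ### Automorphisms -/

/-- The table of a representative. -/
def repN (k : ℕ) : ℕ → ℕ := fun a => (repTab.getD k []).getD a 0

theorem ok_rep : (List.range 8).all (fun k => repN k 0 == 0 && (List.range 128).all fun a => decide (repN k a < 128) &&
    gensN.all fun g => repN k (mulN a g) == mulN (repN k a) (repN k g)) = true := by decide +kernel

theorem rep_spec {k : ℕ} (hk : k < 8) : repN k 0 = 0 ∧ ∀ a < 128, repN k a < 128 ∧
    ∀ g ∈ gensN, repN k (mulN a g) = mulN (repN k a) (repN k g) := by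
  have h := all_range ok_rep hk
  simp only [Bool.and_eq_true, beq_iff_eq] at h
  refine ⟨h.1, fun a ha => ?_⟩
  have h2 := all_range h.2 ha
  simp only [Bool.and_eq_true, decide_eq_true_eq, List.all_eq_true, beq_iff_eq] at h2
  exact h2

/-- A representative of an outer automorphism. -/
def rep (k : Fin 8) : Mdl →* Mdl :=
  MonoidHom.mk' (fun a => of (repN k a.c)) (Mdl.hom_of_gens (fun a => of (repN k a.c))
    (show of (repN k (1 : Mdl).c) = 1 by rw [c_one, (rep_spec k.isLt).1]; rfl) fun a g hg => by
      show of (repN k (a * of g).c) = of (repN k a.c) * of (repN k (of g).c)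
      rw [c_mul, c_of (gen_lt hg), ((rep_spec k.isLt).2 _ a.v.isLt).2 g hg,
        of_mul ((rep_spec k.isLt).2 _ a.v.isLt).1 ((rep_spec k.isLt).2 _ (gen_lt hg)).1])

theorem c_rep (k : Fin 8) (a : Mdl) : (rep k a).c = repN k a.c := by
  show (of (repN k a.c)).c = _
  exact c_of ((rep_spec k.isLt).2 _ a.v.isLt).1

/-- Conjugation in codes. -/
def conjN (g a : ℕ) : ℕ := mulN (mulN g a) (invN g)

theorem c_conj (g a : Mdl) : (g * a * g⁻¹).c = conjN g.c a.c := by rw [c_mul, c_mul, c_inv, conjN]

/-- Commuting codes. -/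
def comN (a b : ℕ) : Bool := mulN a b == mulN b a

/-- The order of a centraliser. -/
def centN (a : ℕ) : ℕ := (List.range 128).countP fun b => comN a b

theorem ok_cent : (List.range 128).all (fun a => mulN a a != 0 ||
    ((centN a != 32 || invX.contains a) && (centN a != 16 || invZ.contains a))) = true := by decide +kernel

theorem ok_gens : (centN 4 == 32 && centN 7 == 32 && centN 64 == 16) = true := by decide +kernel

/-- The admissible pairs. -/
def pairs : List (ℕ × ℕ) :=
  (invX.flatMap fun x => invX.map fun y => (x, y)).filter fun p =>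
    let q := mulN (mulN p.1 p.2) (mulN p.1 p.2)
    q != 0 && mulN q q == 0

/-- The admissible triples. -/
def triples : List (ℕ × ℕ × ℕ) :=
  (pairs.flatMap fun p => invZ.map fun z => (p.1, p.2, z)).filter fun t =>
    comN t.1 (mulN (mulN t.2.2 t.1) t.2.2) && comN t.1 (mulN (mulN t.2.2 t.2.1) t.2.2) &&
      comN t.2.1 (mulN (mulN t.2.2 t.2.1) t.2.2)

/-- Validity of a witness. -/
def witOK (t : (ℕ × ℕ × ℕ) × ℕ) : Bool :=
  decide (t.2 / 128 < 8) && repN (t.2 / 128) (conjN (t.2 % 128) 4) == t.1.1 &&
    repN (t.2 / 128) (conjN (t.2 % 128) 7) == t.1.2.1 && repN (t.2 / 128) (conjN (t.2 % 128) 64) == t.1.2.2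

theorem ok_wit : (decide (triples.length ≤ witness.length) && (triples.zip witness).all witOK) = true := by
  decide +kernel

theorem exists_wit {t : ℕ × ℕ × ℕ} (h : t ∈ triples) : ∃ w, witOK (t, w) = true := by
  have e := ok_wit
  simp only [Bool.and_eq_true, decide_eq_true_eq, List.all_eq_true] at e
  obtain ⟨i, hi, rfl⟩ := List.getElem_of_mem h
  refine ⟨witness[i]'(lt_of_lt_of_le hi e.1), e.2 _ ?_⟩
  rw [List.mem_iff_getElem]
  exact ⟨i, by rw [List.length_zip]; omega, List.getElem_zip⟩

theorem centN_map (φ : Mdl ≃* Mdl) (a : Mdl) : centN (φ a).c = centN a.c := by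
  have key : ∀ b : Mdl, centN b.c = (Finset.univ.filter fun x : Mdl => b * x = x * b).card := by
    intro b
    have h1 : centN b.c = ((Finset.range 128).filter fun n => comN b.c n = true).card := by
      rw [centN, List.countP_eq_length_filter, ← List.toFinset_card_of_nodup (List.nodup_range.filter _)]
      congr 1
      ext n
      simp
    rw [h1]
    refine Finset.card_bij (fun n _ => of n) (fun n hn => ?_) (fun m hm n hn e => ?_) (fun x hx => ?_)
    · simp only [Finset.mem_filter, Finset.mem_range, comN, beq_iff_eq] at hn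
      simp only [Finset.mem_filter, Finset.mem_univ, true_and]
      refine ext' ?_
      rw [c_mul, c_mul, c_of hn.1]; exact hn.2
    · simp only [Finset.mem_filter, Finset.mem_range] at hm hn
      rw [← c_of hm.1, ← c_of hn.1, e]
    · simp only [Finset.mem_filter, Finset.mem_univ, true_and] at hx
      refine ⟨x.c, ?_, of_c x⟩
      simp only [Finset.mem_filter, Finset.mem_range, comN, beq_iff_eq]
      exact ⟨x.v.isLt, by rw [← c_mul, ← c_mul, hx]⟩
  rw [key, key]
  refine (Finset.card_bij (fun x _ => φ x) (fun x hx => ?_) (fun x _ y _ e => φ.injective e) (fun y hy => ?_)).symm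
  · simp only [Finset.mem_filter, Finset.mem_univ, true_and] at hx ⊢
    rw [← map_mul, ← map_mul, hx]
  · simp only [Finset.mem_filter, Finset.mem_univ, true_and] at hy
    refine ⟨φ.symm y, ?_, φ.apply_symm_apply y⟩
    simp only [Finset.mem_filter, Finset.mem_univ, true_and]
    exact φ.injective (by rw [map_mul, map_mul, φ.apply_symm_apply]; exact hy)

/-- Every automorphism is a representative composed with an inner one. -/
theorem aut_cases (φ : Mdl ≃* Mdl) : ∃ (k : Fin 8) (g : Mdl), ∀ p, φ p = rep k (g * p * g⁻¹) := by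
  set a := of 4 with ha
  set b := of 7 with hb
  set t := of 64 with ht
  have hg := ok_gens
  simp only [Bool.and_eq_true, beq_iff_eq] at hg
  have inv : ∀ x : Mdl, x * x = 1 → mulN (φ x).c (φ x).c = 0 := fun x hx => by
    rw [← c_mul, ← map_mul, hx, map_one, c_one]
  have memX : ∀ x : Mdl, x * x = 1 → centN x.c = 32 → (φ x).c ∈ invX := by
    intro x hx hc
    have e := all_range ok_cent (φ x).v.isLt
    simpa [inv x hx, centN_map, hc] using e
  have memZ : ∀ x : Mdl, x * x = 1 → centN x.c = 16 → (φ x).c ∈ invZ := by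
    intro x hx hc
    have e := all_range ok_cent (φ x).v.isLt
    simpa [inv x hx, centN_map, hc] using e
  have com : ∀ x y : Mdl, x * y = y * x → comN (φ x).c (φ y).c = true := fun x y h => by
    rw [comN, beq_iff_eq, ← c_mul, ← c_mul, ← map_mul, ← map_mul, h]
  have c3 : ∀ x y : Mdl, (φ (x * y * x)).c = mulN (mulN (φ x).c (φ y).c) (φ x).c := fun x y => by
    rw [map_mul, map_mul, c_mul, c_mul]
  have sa : a * a = 1 := by decide +kernel
  have sb : b * b = 1 := by decide +kernel
  have st : t * t = 1 := by decide +kernel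
  have hab : (a * b * (a * b)) ≠ 1 := by decide +kernel
  have hab2 : (a * b * (a * b)) * (a * b * (a * b)) = 1 := by decide +kernel
  have k1 : a * (t * a * t) = t * a * t * a := by decide +kernel
  have k2 : a * (t * b * t) = t * b * t * a := by decide +kernel
  have k3 : b * (t * b * t) = t * b * t * b := by decide +kernel
  have hp : ((φ a).c, (φ b).c) ∈ pairs := by
    rw [pairs, List.mem_filter, List.mem_flatMap]
    refine ⟨⟨_, memX a sa (by rw [ha, c_of (by norm_num)]; exact hg.1.1), List.mem_map.2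
      ⟨_, memX b sb (by rw [hb, c_of (by norm_num)]; exact hg.1.2), rfl⟩⟩, ?_⟩
    simp only [Bool.and_eq_true, bne_iff_ne, beq_iff_eq, ne_eq, ← c_mul, ← map_mul]
    refine ⟨fun h => hab (φ.injective (ext' (by rw [h, map_one, c_one]))), ?_⟩
    rw [hab2, map_one, c_one]
  have htm : ((φ a).c, (φ b).c, (φ t).c) ∈ triples := by
    rw [triples, List.mem_filter, List.mem_flatMap]
    refine ⟨⟨_, hp, List.mem_map.2 ⟨_, memZ t st (by rw [ht, c_of (by norm_num)]; exact hg.2), rfl⟩⟩, ?_⟩
    simp only [Bool.and_eq_true, ← c3]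
    exact ⟨⟨com _ _ k1, com _ _ k2⟩, com _ _ k3⟩
  obtain ⟨w, hw⟩ := exists_wit htm
  simp only [witOK, Bool.and_eq_true, decide_eq_true_eq, beq_iff_eq] at hw
  have hgl : w % 128 < 128 := Nat.mod_lt _ (by norm_num)
  refine ⟨⟨w / 128, hw.1.1.1⟩, of (w % 128), fun p => ?_⟩
  have e : φ.toMonoidHom = (rep ⟨w / 128, hw.1.1.1⟩).comp (MulAut.conj (of (w % 128))).toMonoidHom := by
    refine Mdl.hom_ext fun g hg' => ext' ?_
    show (φ (of g)).c = (rep ⟨w / 128, hw.1.1.1⟩ (of (w % 128) * of g * (of (w % 128))⁻¹)).c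
    rw [c_rep, c_conj, c_of hgl, c_of (gen_lt hg')]
    simp only [gensN, List.mem_cons, List.not_mem_nil, or_false] at hg'
    rcases hg' with rfl | rfl | rfl
    exacts [hw.1.1.2.symm, hw.1.2.symm, hw.2.symm]
  exact DFunLike.congr_fun e p

end Cfsg.Lib.WreathEight
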